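import Cfsg.Agent.Lib.H35.TCDih5.Data
import Cfsg.Agent.Lib.H35.TC
set_option autoImplicit false
set_option maxRecDepth 100000
set_option linter.all false
namespace H35.TCDih5
open H35.TC
/-- letters -/
inductive Lt | a | b
  deriving DecidableEq
/-- inverse letter -/
def inv : Lt → Lt
  | .a => .a
  | .b => .b
/-- table functions -/
noncomputable def T : Lt → ℕ → ℕ
  | .a => T_a
  | .b => T_b
/-- decoding of letter codes -/
def lt : ℕ → Lt
  | 0 => .a
  | _ => .b
/-- Coxeter matrix (0: no relation) -/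
def mm : Lt → Lt → ℕ
  | .a, .a => 1
  | .a, .b => 5
  | .b, .a => 5
  | .b, .b => 1
/-- extra relators `w ^ n` -/
def extra : List (List Lt × ℕ) := [
  ]
/-- relators -/
def rels : List (List Lt) := mkRels [(.a, .b), (.a, .a), (.b, .b)] mm extra
/-- subgroup words -/
def subs : List (List Lt) := [
  ]
noncomputable def disp_a (j u : ℕ) : Bool :=
  Bool.rec (motive := fun _ => Bool) (lDef P (nat_lit 0) (Nat.mod (T_a u) M) u) (lDef P (nat_lit 0) u (Nat.mod (T_a u) M)) (Nat.ble (nat_lit 1) j)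
noncomputable def chk_a (j u : ℕ) : Bool :=
  Bool.rec (motive := fun _ => Bool) (disp_a j u) (Nat.ble (Nat.succ (MG u)) A) (Nat.ble A (T_a u))
noncomputable def disp_b (j u : ℕ) : Bool :=
  Bool.rec (motive := fun _ => Bool) (lDef P (nat_lit 1) (Nat.mod (T_b u) M) u) (Bool.rec (motive := fun _ => Bool) (lDef P (nat_lit 1) u (Nat.mod (T_b u) M)) (Bool.rec (motive := fun _ => Bool) (lF1 T_b M (Nat.sub (T_b u) (Nat.mod (T_b u) M)) (Nat.mod (T_b u) M) u) (lF [T_a, T_b, T_a, T_b, T_a, T_b, T_a, T_b, T_a] M (Nat.sub (T_b u) (Nat.mod (T_b u) M)) (Nat.mod (T_b u) M) u) (Nat.ble (nat_lit 3) j)) (Nat.ble (nat_lit 2) j)) (Nat.ble (nat_lit 1) j)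
noncomputable def chk_b (j u : ℕ) : Bool :=
  Bool.rec (motive := fun _ => Bool) (disp_b j u) (Nat.ble (Nat.succ (MG u)) A) (Nat.ble A (T_b u))
noncomputable def chkM (u : ℕ) : Bool := Nat.ble A (MG u)
noncomputable def chkN (u : ℕ) : Bool :=
  band (chk_a (Nat.land (Nat.shiftRight (RS u) (nat_lit 0)) (nat_lit 15)) u) (band (chk_b (Nat.land (Nat.shiftRight (RS u) (nat_lit 4)) (nat_lit 15)) u) (chkM u))
noncomputable def chkP (u : ℕ) : Bool := Bool.rec (motive := fun _ => Bool) (chkN u) true (Nat.ble M u)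
noncomputable def liveP (u : ℕ) : Bool := Bool.rec (motive := fun _ => Bool) (Nat.ble A (MG u)) false (Nat.ble M u)
end H35.TCDih5
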